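import Groth.Agent.ModStalk.DepthTwo
import Groth.Prelude.Def_MeroDiv

/-! Effectivity of meromorphic divisors is decided in depth one. -/

set_option autoImplicit false
universe u

open CategoryTheory AlgebraicGeometry TopologicalSpace Opposite

namespace Groth.Agent.CDivDepth.Mero

open Groth.Agent.ModStalk

variable {X : Scheme.{u}}

theorem mk_mul_algebraMap {R : Type u} [CommRing R] {S : Submonoid R} (r : R) (s : S) :
    (LocalizedModule.mk r s : Localization S) * algebraMap R (Localization S) s = algebraMap R (Localization S) r := by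
  have h : (LocalizedModule.mk r s : Localization S) = Localization.mk r s := rfl
  rw [h, Localization.mk_eq_mk']
  exact IsLocalization.mk'_spec _ r s

theorem mul_eq_mul_of_mk {R : Type u} [CommRing R] {S : Submonoid R} (hS : S ≤ nonZeroDivisors R)
    {p q : Localization S} {r r' : R} {s s' : S} (hp : p = LocalizedModule.mk r s)
    (hq : q = LocalizedModule.mk r' s') (h : p * q = 1) : r * r' = s * s' := by
  apply IsLocalization.injective (Localization S) hS
  rw [map_mul, map_mul, ← mk_mul_algebraMap r s, ← mk_mul_algebraMap r' s', ← hp, ← hq, mul_mul_mul_comm, h, one_mul]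

theorem mul_algebraMap_of_mk {R : Type u} [CommRing R] {S : Submonoid R} {p : Localization S} {r : R} {s : S}
    (hp : p = LocalizedModule.mk r s) : p * algebraMap R (Localization S) s = algebraMap R (Localization S) r :=
  hp ▸ mk_mul_algebraMap r s

/-- A representation of a germ as a fraction. -/
def IsRep (y : X) (g : Mero.Germ X y) (a b : X.presheaf.stalk y) : Prop :=
  ∃ u : (Mero.KStalk X y)ˣ, g = QuotientGroup.mk u ∧
    (u : Mero.KStalk X y) * algebraMap _ _ b = algebraMap _ _ a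

theorem IsRep.inv {y : X} {g : Mero.Germ X y} {a b : X.presheaf.stalk y} (h : IsRep y g a b) :
    IsRep y g⁻¹ b a := by
  obtain ⟨u, rfl, hu⟩ := h
  exact ⟨u⁻¹, rfl, by rw [← hu, Units.inv_mul_cancel_left]⟩

theorem regular_of_eq_mul {R : Type u} [CommRing R] {a b c : R} (ha : a ∈ nonZeroDivisors R) (h : a = b * c) :
    c ∈ nonZeroDivisors R := by
  rw [h] at ha
  exact (mul_mem_nonZeroDivisors.mp ha).2

/-- A local equation of a divisor with regular numerator and denominator. -/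
theorem exists_rep (D : Mero.Divisor X) (x : X) :
    ∃ (V : X.Opens) (_ : IsAffineOpen V) (_ : x ∈ V) (a b : Γ(X, V)),
      a ∈ Mero.regSub X V ∧ b ∈ Mero.regSub X V ∧
        ∀ (y : X) (hy : y ∈ V), IsRep y (D.1 y) (X.presheaf.germ V y hy a) (X.presheaf.germ V y hy b) := by
  obtain ⟨U, hxU, f, hf⟩ := D.2 x
  obtain ⟨V₁, m₁, i₁, a₁, b₁, w₁⟩ := (f : Γ(Mero.kmod X, U)).2 ⟨x, hxU⟩
  obtain ⟨V₂, m₂, i₂, a₂, b₂, w₂⟩ := (↑f⁻¹ : Γ(Mero.kmod X, U)).2 ⟨x, hxU⟩
  obtain ⟨_, ⟨V, hV, rfl⟩, hxV, hVle⟩ :=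
    X.isBasis_affineOpens.exists_subset_of_mem_open (u := ((V₁ ⊓ V₂ : X.Opens) : Set X)) ⟨m₁, m₂⟩ (V₁ ⊓ V₂).isOpen
  have h₁ : V ≤ V₁ := fun y hy => (hVle hy).1
  have h₂ : V ≤ V₂ := fun y hy => (hVle hy).2
  refine ⟨V, hV, hxV, X.presheaf.map (homOfLE h₁).op a₁, X.presheaf.map (homOfLE h₁).op b₁.1, ?_,
    Mero.regSub_res _ b₁.2, fun y hy => ?_⟩
  · intro y
    have e₁ := w₁ ⟨y.1, h₁ y.2⟩
    have e₂ := w₂ ⟨y.1, h₂ y.2⟩
    let pt : U := ⟨y.1, i₁.le (h₁ y.2)⟩
    have hmul : Mero.evalK X U pt (↑f) * Mero.evalK X U pt (↑f⁻¹) = 1 := by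
      rw [← map_mul, Units.mul_inv, map_one]
    have e₁' : Mero.evalK X U pt (↑f) =
        LocalizedModule.mk (X.presheaf.germ V₁ y.1 (h₁ y.2) a₁) (Mero.regGerm ⟨y.1, h₁ y.2⟩ b₁) := e₁
    have e₂' : Mero.evalK X U pt (↑f⁻¹) =
        LocalizedModule.mk (X.presheaf.germ V₂ y.1 (h₂ y.2) a₂) (Mero.regGerm ⟨y.1, h₂ y.2⟩ b₂) := e₂
    have hprod : X.presheaf.germ V₁ y.1 (h₁ y.2) a₁ * X.presheaf.germ V₂ y.1 (h₂ y.2) a₂ =
        X.presheaf.germ V₁ y.1 (h₁ y.2) b₁.1 * X.presheaf.germ V₂ y.1 (h₂ y.2) b₂.1 :=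
      mul_eq_mul_of_mk (s := Mero.regGerm ⟨y.1, h₁ y.2⟩ b₁) (s' := Mero.regGerm ⟨y.1, h₂ y.2⟩ b₂) (Mero.regStalk_le_nonZeroDivisors y.1) e₁' e₂' hmul
    rw [TopCat.Presheaf.germ_res_apply]
    have hbb : X.presheaf.germ V₁ y.1 (h₁ y.2) b₁.1 * X.presheaf.germ V₂ y.1 (h₂ y.2) b₂.1 ∈
        nonZeroDivisors (X.presheaf.stalk y.1) := Submonoid.mul_mem _ (b₁.2 ⟨y.1, h₁ y.2⟩) (b₂.2 ⟨y.1, h₂ y.2⟩)
    rw [← hprod] at hbb
    exact (mul_mem_nonZeroDivisors.mp hbb).1
  · have e₁ := w₁ ⟨y, h₁ hy⟩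
    refine ⟨Units.map (Mero.evalK X U ⟨y, i₁.le (h₁ hy)⟩).toMonoidHom f, hf ⟨y, i₁.le (h₁ hy)⟩, ?_⟩
    rw [TopCat.Presheaf.germ_res_apply, TopCat.Presheaf.germ_res_apply]
    exact mul_algebraMap_of_mk e₁

/-- Effective at a point iff the fraction is regular there. -/
theorem isEffectiveAt_iff (D : Mero.Divisor X) {V : X.Opens} (y : X) (hy : y ∈ V) (a b : Γ(X, V))
    (ha : a ∈ Mero.regSub X V) (h : IsRep y (D.1 y) (X.presheaf.germ V y hy a) (X.presheaf.germ V y hy b)) :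
    Mero.IsEffectiveAt D y ↔ ∃ c, X.presheaf.germ V y hy a = X.presheaf.germ V y hy b * c := by
  obtain ⟨u, hu, hab⟩ := h
  constructor
  · rintro ⟨s, hs⟩
    rw [hu] at hs
    obtain ⟨w, hw⟩ := QuotientGroup.eq.mp hs
    have hw' : algebraMap (X.presheaf.stalk y) (Mero.KStalk X y) w =
        (↑u⁻¹ : Mero.KStalk X y) * algebraMap (X.presheaf.stalk y) (Mero.KStalk X y) s.1 := by
      have h1 := congrArg Units.val hw
      simpa using h1
    refine ⟨s.1 * ↑w⁻¹, Mero.algebraMap_KStalk_injective y ?_⟩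
    have hwinv : algebraMap (X.presheaf.stalk y) (Mero.KStalk X y) w *
        algebraMap (X.presheaf.stalk y) (Mero.KStalk X y) ↑w⁻¹ = 1 := by
      rw [← map_mul, Units.mul_inv, map_one]
    rw [map_mul, map_mul, ← hab]
    calc (u : Mero.KStalk X y) * algebraMap _ _ (X.presheaf.germ V y hy b)
        = algebraMap _ _ (X.presheaf.germ V y hy b) * ((u : Mero.KStalk X y) *
            (algebraMap (X.presheaf.stalk y) (Mero.KStalk X y) w * algebraMap _ _ (↑w⁻¹ : X.presheaf.stalk y))) := by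
          rw [hwinv, mul_one, mul_comm]
      _ = algebraMap _ _ (X.presheaf.germ V y hy b) * (algebraMap _ _ s.1 * algebraMap _ _ (↑w⁻¹ : X.presheaf.stalk y)) := by
          rw [hw', ← mul_assoc (u : Mero.KStalk X y), ← mul_assoc (u : Mero.KStalk X y), Units.mul_inv, one_mul]
  · rintro ⟨c, hc⟩
    obtain ⟨O, hyO, c₀, rfl⟩ := X.presheaf.exists_germ_eq (x := y) c
    have hW0 : y ∈ V ⊓ O := ⟨hy, hyO⟩
    have heq : X.presheaf.germ (V ⊓ O) y hW0 (X.presheaf.map (homOfLE inf_le_left).op a) =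
        X.presheaf.germ (V ⊓ O) y hW0 (X.presheaf.map (homOfLE inf_le_left).op b * X.presheaf.map (homOfLE inf_le_right).op c₀) := by
      rw [map_mul, TopCat.Presheaf.germ_res_apply, TopCat.Presheaf.germ_res_apply, TopCat.Presheaf.germ_res_apply, hc]
    obtain ⟨W, hyW, i, j, hW⟩ := X.presheaf.germ_eq y hW0 hW0 _ _ heq
    have hreg : X.presheaf.map (j ≫ homOfLE inf_le_right).op c₀ ∈ Mero.regSub X W := fun z => by
      refine regular_of_eq_mul (ha ⟨z.1, (leOfHom i z.2).1⟩) (b := X.presheaf.germ V z.1 (leOfHom i z.2).1 b) ?_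
      have h1 := congrArg (X.presheaf.germ W z.1 z.2) hW
      rw [map_mul, map_mul, TopCat.Presheaf.germ_res_apply, TopCat.Presheaf.germ_res_apply, TopCat.Presheaf.germ_res_apply,
        TopCat.Presheaf.germ_res_apply, TopCat.Presheaf.germ_res_apply, TopCat.Presheaf.germ_res_apply] at h1
      rw [TopCat.Presheaf.germ_res_apply]
      exact h1
    have hcS : X.presheaf.germ O y hyO c₀ ∈ Mero.regStalk X y :=
      ⟨W, hyW, _, hreg, TopCat.Presheaf.germ_res_apply ..⟩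
    refine ⟨⟨_, hcS⟩, hu.trans (congrArg _ (Units.ext ?_))⟩
    rw [IsUnit.unit_spec]
    have hbu : IsUnit (algebraMap (X.presheaf.stalk y) (Mero.KStalk X y) (X.presheaf.germ V y hy b)) := by
      have h2 : IsUnit (algebraMap (X.presheaf.stalk y) (Mero.KStalk X y) (X.presheaf.germ V y hy a)) :=
        IsLocalization.map_units _ (⟨_, Mero.germ_mem_regStalk ⟨y, hy⟩ ha⟩ : Mero.regStalk X y)
      rw [hc, map_mul] at h2
      exact isUnit_of_mul_isUnit_left h2
    apply hbu.mul_left_injective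
    show (u : Mero.KStalk X y) * _ = _ * _
    rw [hab, hc, map_mul, mul_comm]

theorem germ_eq_one (D : Mero.Divisor X) {V : X.Opens} (y : X) (hy : y ∈ V) (a b : Γ(X, V))
    (hb : b ∈ Mero.regSub X V) (h : IsRep y (D.1 y) (X.presheaf.germ V y hy a) (X.presheaf.germ V y hy b))
    {c c' : X.presheaf.stalk y} (hc : X.presheaf.germ V y hy a = X.presheaf.germ V y hy b * c)
    (hc' : X.presheaf.germ V y hy b = X.presheaf.germ V y hy a * c') : D.1 y = 1 := by
  obtain ⟨u, hu, hab⟩ := h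
  have hcc : c * c' = 1 := by
    have h1 : X.presheaf.germ V y hy b * (c * c' - 1) = 0 := by
      rw [mul_sub, mul_one, ← mul_assoc, ← hc, ← hc', sub_self]
    exact sub_eq_zero.mp ((mem_nonZeroDivisors_iff.mp (hb ⟨y, hy⟩)).1 _ h1)
  rw [hu, QuotientGroup.eq_one_iff]
  refine ⟨Units.mkOfMulEqOne c c' hcc, Units.ext ?_⟩
  show algebraMap _ _ c = (u : Mero.KStalk X y)
  apply (IsLocalization.map_units _ (⟨_, Mero.germ_mem_regStalk ⟨y, hy⟩ hb⟩ : Mero.regStalk X y)).mul_left_injective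
  show _ * algebraMap _ _ (X.presheaf.germ V y hy b) = (u : Mero.KStalk X y) * algebraMap _ _ (X.presheaf.germ V y hy b)
  rw [hab, hc, map_mul, mul_comm]

theorem exists_eq_mul_of_depth [IsLocallyNoetherian X] {V : X.Opens} (hV : IsAffineOpen V) (x : X) (hxV : x ∈ V)
    (a b : Γ(X, V)) (hb : b ∈ Mero.regSub X V)
    (hd : (2 : ℕ∞) ≤ LocCoh.depth (X.presheaf.stalk x) (X.presheaf.stalk x))
    (hgen : ∀ (y : X) (hy : y ∈ V), y ⤳ x → y ≠ x → ∃ c, X.presheaf.germ V y hy a = X.presheaf.germ V y hy b * c) :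
    ∃ c, X.presheaf.germ V x hxV a = X.presheaf.germ V x hxV b * c := by
  classical
  have : IsNoetherianRing Γ(X, V) := IsLocallyNoetherian.component_noetherian ⟨V, hV⟩
  letI := TopCat.Presheaf.algebra_section_stalk X.presheaf (⟨x, hxV⟩ : V)
  haveI := hV.isLocalization_stalk ⟨x, hxV⟩
  let J₀ : Ideal Γ(X, V) := (Ideal.span {b}).colon {a}
  have hJ₀ : ∀ y : V, y.1 ⤳ x → y.1 ≠ x → ∃ d ∈ J₀, d ∉ (hV.primeIdealOf y).asIdeal := by
    intro y hyx hne
    obtain ⟨z, hz⟩ := hgen y.1 y.2 hyx hne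
    letI := TopCat.Presheaf.algebra_section_stalk X.presheaf y
    haveI := hV.isLocalization_stalk y
    obtain ⟨⟨c, d⟩, hcd⟩ := IsLocalization.surj (hV.primeIdealOf y).asIdeal.primeCompl z
    have heq : algebraMap Γ(X, V) (X.presheaf.stalk y.1) (d.1 * a) = algebraMap Γ(X, V) (X.presheaf.stalk y.1) (b * c) := by
      show X.presheaf.germ V y.1 y.2 (d.1 * a) = X.presheaf.germ V y.1 y.2 (b * c)
      rw [map_mul, map_mul, hz]
      have hcd' : z * X.presheaf.germ V y.1 y.2 d.1 = X.presheaf.germ V y.1 y.2 c := hcd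
      rw [← hcd']
      ring
    obtain ⟨e, he⟩ := IsLocalization.exists_of_eq (M := (hV.primeIdealOf y).asIdeal.primeCompl) heq
    refine ⟨e.1 * d.1, ?_, ((hV.primeIdealOf y).asIdeal.primeCompl.mul_mem e.2 d.2 :)⟩
    rw [Submodule.mem_colon_singleton]
    refine Ideal.mem_span_singleton.mpr ⟨e.1 * c, ?_⟩
    rw [smul_eq_mul, mul_assoc, he]
    ring
  let L : X.presheaf.stalk x →ₗ[X.presheaf.stalk x] X.presheaf.stalk x :=
    LinearMap.mulLeft _ (X.presheaf.germ V x hxV b)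
  have hL : Function.Injective L := (injective_iff_map_eq_zero _).mpr fun t ht =>
    (mem_nonZeroDivisors_iff.mp (hb ⟨x, hxV⟩)).1 _ ht
  suffices hmem : X.presheaf.germ V x hxV a ∈ LinearMap.range L by
    obtain ⟨z, hz⟩ := hmem
    exact ⟨z, hz.symm⟩
  let J : Ideal (X.presheaf.stalk x) :=
    (LinearMap.range L).comap (LinearMap.toSpanSingleton _ _ (X.presheaf.germ V x hxV a))
  suffices hJ : IsLocalRing.maximalIdeal (X.presheaf.stalk x) ≤ J.radical by
    obtain ⟨k, hk⟩ := Ideal.exists_pow_le_of_le_radical_of_fg hJ (IsNoetherian.noetherian _)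
    refine mem_range_of_maximal_pow_smul L hL hd (fun n hn => ?_) k _ fun e he => hk he
    obtain ⟨e, he, hreg⟩ := IdealDepth.one_le_iff_exists.mp ((le_of_lt (by norm_num)).trans hd)
    exact hreg (by simpa using hn e he)
  rw [← IsLocalization.AtPrime.map_eq_maximalIdeal (hV.primeIdealOf ⟨x, hxV⟩).asIdeal (X.presheaf.stalk x),
    Ideal.map_le_iff_le_comap]
  intro g hg
  by_contra hrad
  let S : Submonoid Γ(X, V) := (hV.primeIdealOf ⟨x, hxV⟩).asIdeal.primeCompl ⊔ Submonoid.powers g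
  have hdisj : Disjoint (J₀ : Set Γ(X, V)) S := Set.disjoint_left.mpr fun c hc hcS => by
    obtain ⟨d, hd', _, ⟨k, rfl⟩, rfl⟩ := Submonoid.mem_sup.mp hcS
    rw [SetLike.mem_coe, Submodule.mem_colon_singleton] at hc
    obtain ⟨e, he⟩ := Ideal.mem_span_singleton.mp hc
    rw [smul_eq_mul] at he
    have hdu : IsUnit (X.presheaf.germ V x hxV d) :=
      (Scheme.mem_basicOpen _ _ _ hxV).mp ((germ_mem_primeIdeal_iff hV ⟨x, hxV⟩ d).mp hd')
    refine hrad ⟨k, ?_⟩
    show X.presheaf.germ V x hxV g ^ k • X.presheaf.germ V x hxV a ∈ LinearMap.range L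
    refine ⟨hdu.unit⁻¹.val * X.presheaf.germ V x hxV e, ?_⟩
    show X.presheaf.germ V x hxV b * (hdu.unit⁻¹.val * X.presheaf.germ V x hxV e) = X.presheaf.germ V x hxV g ^ k * X.presheaf.germ V x hxV a
    rw [mul_left_comm, ← map_mul (X.presheaf.germ V x hxV).hom b e, ← he, map_mul, map_mul, map_pow, ← mul_assoc,
      ← mul_assoc, IsUnit.val_inv_mul, one_mul]
  obtain ⟨P, hP, hJP, hPS⟩ := Ideal.exists_le_prime_disjoint J₀ S hdisj
  have hPx : P ≤ (hV.primeIdealOf ⟨x, hxV⟩).asIdeal := fun c hc => by_contra fun hcx =>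
    Set.disjoint_left.mp hPS hc (Submonoid.mem_sup_left hcx)
  obtain ⟨y, rfl⟩ := exists_point hV P
  have hne : y.1 ≠ x := fun he' => by
    refine Set.disjoint_left.mp hPS (?_ : g ∈ _) (Submonoid.mem_sup_right ⟨1, pow_one g⟩)
    have : y = ⟨x, hxV⟩ := Subtype.ext he'
    rw [this]; exact hg
  obtain ⟨d, hd1, hd2⟩ := hJ₀ y (specializes_of_primeIdeal_le hV hPx) hne
  exact hd2 (hJP hd1)

theorem isEffective_of_depth_one [IsLocallyNoetherian X] (D : Mero.Divisor X)
    (h : ∀ x : X, LocCoh.depth (X.presheaf.stalk x) (X.presheaf.stalk x) = 1 → Mero.IsEffectiveAt D x) :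
    Mero.IsEffective D := by
  intro x₀
  refine generization_induction (P := fun z => Mero.IsEffectiveAt D z) (fun x ih => ?_) x₀
  obtain ⟨V, hV, hxV, a, b, ha, hb, hrep⟩ := exists_rep D x
  rcases lt_trichotomy (LocCoh.depth (X.presheaf.stalk x) (X.presheaf.stalk x)) 1 with hd | hd | hd
  · rw [isEffectiveAt_iff D x hxV a b ha (hrep x hxV)]
    have hu : IsUnit (X.presheaf.germ V x hxV b) := by
      by_contra hu
      refine not_le.mpr hd (IdealDepth.one_le_iff_exists.mpr ⟨_, (IsLocalRing.mem_maximalIdeal _).mpr hu, ?_⟩)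
      exact fun s t hst => sub_eq_zero.mp ((mem_nonZeroDivisors_iff.mp (hb ⟨x, hxV⟩)).1 _ (by
        rw [mul_sub]; exact sub_eq_zero.mpr hst))
    exact ⟨hu.unit⁻¹.val * X.presheaf.germ V x hxV a, by rw [← mul_assoc, IsUnit.mul_val_inv, one_mul]⟩
  · exact h x hd
  · rw [isEffectiveAt_iff D x hxV a b ha (hrep x hxV)]
    exact exists_eq_mul_of_depth hV x hxV a b hb (Order.add_one_le_of_lt hd) fun y hy hyx hne =>
      (isEffectiveAt_iff D y hy a b ha (hrep y hy)).mp (ih y hyx hne)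

theorem eq_one_of_effective (D : Mero.Divisor X) (h : Mero.IsEffective D) (h' : Mero.IsEffective D⁻¹) : D = 1 := by
  refine Subtype.ext (funext fun x => ?_)
  obtain ⟨V, hV, hxV, a, b, ha, hb, hrep⟩ := exists_rep D x
  obtain ⟨c, hc⟩ := (isEffectiveAt_iff D x hxV a b ha (hrep x hxV)).mp (h x)
  obtain ⟨c', hc'⟩ := (isEffectiveAt_iff D⁻¹ x hxV b a hb (hrep x hxV).inv).mp (h' x)
  exact germ_eq_one D x hxV a b hb (hrep x hxV) hc hc'

end Groth.Agent.CDivDepth.Mero
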